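import Cfsg.Agent.Omega.NO1.Comp.Ind

/-!
# THEOREM SZ (bb OMEGA #19896, helper406), (2) KILL and (3) (R+)

`V` an additive group of exponent 2 with an action of the group `H`; `FlatA U E F` (helper29): `U` is elementary
abelian on `V`, `F = C_V(U) ≤ E`, `[V,U] ≤ E`, `[E,U] ≤ F`, `E = [w,U] + F` for `w ∈ V - E`.

* `FlatA.triv_E`, `FlatA.triv_V` : `s ∈ U`, `[w,s] ∈ F` for a `w ∈ V - E` ⟹ `[E,s] = 0`, `[V,s] ≤ F`;
* `FlatA.plus` **(R+)** : if no `g ≠ 1` satisfies `[V,g] ≤ F`, `[E,g] = 0`, then `C(V/E) ∩ C(E/F) ∩ C(F) = U`;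
* `Kl U R E F K` : `U ⊴ R`, `[V,R] ≤ E`, `[F,R] = 0`, `K/F = C_{E/F}(R) ≤ [E/F,R]`;
* `Kl.false_of` **KILL** : `|K/F|² = |E/F|`, `|R : U| ≥ |V : E|`, (MU) and no offender: contradiction.
-/

set_option autoImplicit false
set_option linter.unusedSectionVars false

namespace Cfsg.Agent.Omega.NO1.SzK

open Subgroup Cfsg.Agent.Omega.NO1.Comp

universe u v

variable {H : Type u} [Group H] {V : Type v} [AddCommGroup V] [DistribMulAction H V]

section flat

variable {U : Subgroup H} {E F : AddSubgroup V} (h : FlatA U E F)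
include h

/-- `s ∈ U`, `[w,s] ∈ F`, `w ∈ V - E` ⟹ `[E,s] = 0` -/
theorem triv_E {s : H} (hs : s ∈ U) {w : V} (hw : w ∉ E) (hc : s • w + w ∈ F) {e : V} (he : e ∈ E) :
    s • e = e := by
  obtain ⟨t, ht, h1⟩ := h.reg w hw e he
  -- `t w + w + e = f`
  have h2 : s • (t • w + w + e) = t • w + w + e := h.fix h1 hs
  have h3 : t • (s • w + w) = s • w + w := h.fix hc ht
  rw [smul_add, smul_add] at h2
  rw [smul_add, ← h.ab s hs t ht w] at h3
  -- `s t w + t w = s w + w`
  have h4 : s • t • w + s • w + (t • w + w) = 0 := by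
    have e1 : s • t • w + s • w + (t • w + w) = (s • t • w + t • w) + (s • w + w) := by abel
    rw [e1, h3, h.two]
  have h5 : s • e + e = (s • t • w + s • w + s • e) + (t • w + w + e) + (s • t • w + s • w + (t • w + w)) := by
    have e1 : (s • t • w + s • w + s • e) + (t • w + w + e) + (s • t • w + s • w + (t • w + w)) =
        (s • t • w + s • t • w) + (s • w + s • w) + (t • w + t • w) + (w + w) + (s • e + e) := by abel
    simp only [e1, h.two, zero_add]
  rw [h2, h4, add_zero, h.two] at h5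
  exact h.add_eq.1 h5

/-- `s ∈ U`, `[w,s] ∈ F`, `w ∈ V - E` ⟹ `[V,s] ≤ F` -/
theorem triv_V {s : H} (hs : s ∈ U) {w : V} (hw : w ∉ E) (hc : s • w + w ∈ F) (v : V) :
    s • v + v ∈ F := by
  rw [h.F_iff]
  intro t ht
  have h1 := triv_E h hs hw hc (h.VE t ht v)
  rw [smul_add] at h1 ⊢
  rw [← h.ab s hs t ht v]
  have h2 : s • t • v + t • v + (s • v + v) = 0 := by
    have e1 : s • t • v + t • v + (s • v + v) = (s • t • v + s • v) + (t • v + v) := by abel
    rw [e1, h1, h.two]
  exact h.add_eq.1 h2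

/-- `[w, s t] = [w,s] + [w,t]` modulo `F` -/
theorem c_mul {s t : H} (hs : s ∈ U) {w : V} (ht : t • w + w ∈ E) :
    (s * t) • w + w + ((s • w + w) + (t • w + w)) ∈ F := by
  have h1 := h.EF s hs _ ht
  rw [smul_add] at h1
  have e1 : (s * t) • w + w + ((s • w + w) + (t • w + w)) =
      (s • t • w + s • w + (t • w + w)) + (w + w) := by
    rw [mul_smul]
    abel
  rw [e1, h.two, add_zero]
  exact h1

variable (NN : ∀ g : H, (∀ v : V, g • v + v ∈ F) → (∀ e ∈ E, g • e = e) → g = 1)
include NN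

theorem eq_one {s : H} (hs : s ∈ U) {w : V} (hw : w ∉ E) (hc : s • w + w ∈ F) : s = 1 :=
  NN s (triv_V h hs hw hc) fun _ he => triv_E h hs hw hc he

theorem eq_of_act {a b : H} (hab : ∀ v : V, a • v = b • v) : a = b := by
  have h1 : ∀ v : V, (b⁻¹ * a) • v = v := fun v => by rw [mul_smul, hab, inv_smul_smul]
  have h2 := NN (b⁻¹ * a) (fun v => by rw [h1, h.two]; exact zero_mem _) fun e _ => h1 e
  exact (inv_mul_eq_one.1 h2).symm

theorem sq_eq {s : H} (hs : s ∈ U) : s * s = 1 :=
  eq_of_act h NN fun v => by rw [mul_smul, h.inv s hs, one_smul]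

/-- **(R+)** : `C(V/E) ∩ C(E/F) ∩ C(F) = U`, if `NN = 1`. -/
theorem plus {r : H} (hVE : ∀ v : V, r • v + v ∈ E) (hEF : ∀ e ∈ E, r • e + e ∈ F)
    (hF : ∀ f ∈ F, r • f = f) : r ∈ U := by
  obtain ⟨w, hw⟩ := h.ne'
  -- `r` commutes with `U`
  have hcomm : ∀ s ∈ U, ∀ v : V, r • s • v = s • r • v := by
    intro s hs
    -- `g = s⁻¹ r⁻¹ s r`: acts trivially on `E`, and on `V / F`
    have h1 : ∀ e ∈ E, r • s • e = s • r • e := by
      intro e he
      have h2 := hF _ (h.EF s hs e he)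
      have h3 := h.fix (hEF e he) hs
      rw [smul_add] at h2 h3
      have h4 : r • s • e + s • r • e = 0 := by
        have e1 : r • s • e + s • r • e = (r • s • e + r • e) + (s • r • e + s • e) + (r • e + s • e) := by
          have e2 : (r • s • e + r • e) + (s • r • e + s • e) + (r • e + s • e) =
              r • s • e + s • r • e + (r • e + r • e) + (s • e + s • e) := by abel
          rw [e2, h.two, h.two, add_zero, add_zero]
        rw [e1, h2, h3]
        have e3 : s • e + e + (r • e + e) + (r • e + s • e) =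
            (s • e + s • e) + (e + e) + (r • e + r • e) := by abel
        simp only [e3, h.two]
      exact h.add_eq.1 h4
    have h2 : ∀ v : V, r • s • v + s • r • v ∈ F := by
      intro v
      have h3 := hEF _ (h.VE s hs v)
      have h4 := h.EF s hs _ (hVE v)
      rw [smul_add] at h3 h4
      have h5 := add_mem h3 h4
      have e1 : r • s • v + r • v + (s • v + v) + (s • r • v + s • v + (r • v + v)) =
          r • s • v + s • r • v + (r • v + r • v) + (s • v + s • v) + (v + v) := by abel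
      rw [e1, h.two, h.two, h.two, add_zero, add_zero, add_zero] at h5
      exact h5
    have h3 : (s * r)⁻¹ * (r * s) = 1 := by
      refine NN _ (fun v => ?_) fun e he => ?_
      · have h4 : (s * r)⁻¹ • (r • s • v + s • r • v) = r • s • v + s • r • v := by
          rw [inv_smul_eq_iff, mul_smul, hF _ (h2 v), h.fix (h2 v) hs]
        have h5 : ((s * r)⁻¹ * (r * s)) • v + v = r • s • v + s • r • v := by
          rw [← h4, smul_add, mul_smul, mul_smul r s]
          congr 1
          rw [eq_inv_smul_iff, mul_smul]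
        rw [h5]
        exact h2 v
      · rw [mul_smul, mul_smul r s, h1 e he, ← mul_smul s r, inv_smul_smul]
    have h4 : s * r = r * s := inv_mul_eq_one.1 h3
    intro v
    rw [← mul_smul, ← mul_smul, h4]
  obtain ⟨s, hs, h1⟩ := h.reg w hw _ (hVE w)
  have h2 : (s * r) • w + w ∈ F := by
    have h3 := c_mul h hs (hVE w)
    have h4 := add_mem h3 h1
    have e1 : (s * r) • w + w + (s • w + w + (r • w + w)) + (s • w + w + (r • w + w)) =
        (s * r) • w + w + ((s • w + w + (r • w + w)) + (s • w + w + (r • w + w))) := by abel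
    rw [e1, h.two, add_zero] at h4
    exact h4
  -- `s r` centralises `E`, and `[V, s r] ≤ F`
  have h3 : ∀ e ∈ E, (s * r) • e = e := by
    intro e he
    obtain ⟨t, ht, h4⟩ := h.reg w hw e he
    have h5 : t • ((s * r) • w + w) = (s * r) • w + w := h.fix h2 ht
    have h6 : (s * r) • (t • w + w + e) = t • w + w + e := by
      rw [mul_smul, hF _ h4, h.fix h4 hs]
    have h7 : t • (s * r) • w = (s * r) • t • w := by
      rw [mul_smul, mul_smul, ← h.ab s hs t ht, ← hcomm t ht]
    rw [smul_add, h7] at h5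
    rw [smul_add, smul_add] at h6
    have h8 : (s * r) • e + e = ((s * r) • t • w + (s * r) • w + (s * r) • e) + (t • w + w + e) +
        (((s * r) • t • w + t • w) + ((s * r) • w + w)) := by
      have e1 : ((s * r) • t • w + (s * r) • w + (s * r) • e) + (t • w + w + e) +
          (((s * r) • t • w + t • w) + ((s * r) • w + w)) =
          ((s * r) • t • w + (s * r) • t • w) + ((s * r) • w + (s * r) • w) + (t • w + t • w) + (w + w) +
            ((s * r) • e + e) := by abel
      simp only [e1, h.two, zero_add]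
    simp only [h6, h5, h.two] at h8
    exact h.add_eq.1 h8
  have h4 : ∀ v : V, (s * r) • v + v ∈ F := by
    intro v
    rw [h.F_iff]
    intro t ht
    have h5 := h3 _ (h.VE t ht v)
    have h7 : t • (s * r) • v = (s * r) • t • v := by
      rw [mul_smul, mul_smul, ← h.ab s hs t ht, ← hcomm t ht]
    rw [smul_add] at h5 ⊢
    rw [h7]
    have h8 : (s * r) • t • v + t • v + ((s * r) • v + v) = 0 := by
      have e1 : (s * r) • t • v + t • v + ((s * r) • v + v) =
          ((s * r) • t • v + (s * r) • v) + (t • v + v) := by abel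
      rw [e1, h5, h.two]
    exact h.add_eq.1 h8
  have h5 := NN _ h4 h3
  have h6 : r = s := by
    have h7 : r = s⁻¹ := (eq_inv_of_mul_eq_one_right h5)
    rw [h7, inv_eq_iff_mul_eq_one]
    exact sq_eq h NN hs
  rw [h6]
  exact hs

end flat

/-! ### (2) KILL -/

/-- The setting of the KILL. -/
structure Kl (U R : Subgroup H) (E F K : AddSubgroup V) : Prop where
  flat : FlatA U E F
  NN : ∀ g : H, (∀ v : V, g • v + v ∈ F) → (∀ e ∈ E, g • e = e) → g = 1
  UR : U ≤ R
  RE : ∀ r ∈ R, ∀ v : V, r • v + v ∈ E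
  RF : ∀ r ∈ R, ∀ f ∈ F, r • f = f
  RU : ∀ r ∈ R, ∀ u ∈ U, r * u * r⁻¹ ∈ U
  KE : K ≤ E
  /-- `K / F = C_{E/F}(R)` -/
  K_iff : ∀ e ∈ E, e ∈ K ↔ ∀ r ∈ R, r • e + e ∈ F
  /-- `K ≤ F + [E,R]` -/
  gen : K ≤ F ⊔ AddSubgroup.closure {x | ∃ r ∈ R, ∃ e ∈ E, x = r • e + e}

namespace Kl

variable {U R : Subgroup H} {E F K : AddSubgroup V} (h : Kl U R E F K)
include h

theorem FK : F ≤ K := fun f hf => (h.K_iff f (h.flat.F_le hf)).2 fun r hr => by
  rw [h.RF r hr f hf, h.flat.two]
  exact zero_mem _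

theorem smul_E {r : H} (hr : r ∈ R) {e : V} (he : e ∈ E) : r • e ∈ E :=
  (E.add_mem_cancel_right he).1 (h.RE r hr e)

/-- `[v, r s r⁻¹] = r [v,s]` modulo `F` -/
theorem conj_mem {r s : H} (hr : r ∈ R) (hs : s ∈ U) (v : V) :
    (r * s * r⁻¹) • v + v + r • (s • v + v) ∈ F := by
  have h1 := h.flat.EF _ (h.RU r hr s hs) _ (h.RE r hr v)
  have h2 : (r * s * r⁻¹) • r • v = r • s • v := by
    rw [← mul_smul, inv_mul_cancel_right, mul_smul]
  rw [smul_add, h2] at h1
  have e1 : (r * s * r⁻¹) • v + v + r • (s • v + v) =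
      r • s • v + (r * s * r⁻¹) • v + (r • v + v) := by
    rw [smul_add]
    abel
  rw [e1]
  exact h1

/-- `s ∈ U`, `[w,s] ∈ K` for a `w ∈ V - E` ⟹ `s` commutes with `R` -/
theorem comm_of {w : V} (hw : w ∉ E) {s : H} (hs : s ∈ U) (hc : s • w + w ∈ K) {r : H} (hr : r ∈ R) :
    r * s = s * r := by
  have h1 := h.conj_mem hr hs w
  have h2 := (h.K_iff _ (h.KE hc)).1 hc r hr
  have h3 := c_mul h.flat (h.RU r hr s hs) (h.flat.VE s hs w)
  have h4 : (r * s * r⁻¹ * s) • w + w ∈ F := by
    have h5 := add_mem (add_mem h3 h1) h2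
    have e1 : (r * s * r⁻¹ * s) • w + w + ((r * s * r⁻¹) • w + w + (s • w + w)) +
        ((r * s * r⁻¹) • w + w + r • (s • w + w)) + (r • (s • w + w) + (s • w + w)) =
        (r * s * r⁻¹ * s) • w + w + (((r * s * r⁻¹) • w + w) + ((r * s * r⁻¹) • w + w)) +
          ((s • w + w) + (s • w + w)) + (r • (s • w + w) + r • (s • w + w)) := by abel
    rw [e1] at h5
    simpa only [h.flat.two, add_zero] using h5
  have h5 := eq_one h.flat h.NN (mul_mem (h.RU r hr s hs) hs) hw h4
  have h6 := sq_eq h.flat h.NN hs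
  have h7 : r * s * r⁻¹ = s := by
    calc r * s * r⁻¹ = r * s * r⁻¹ * (s * s) := by rw [h6, mul_one]
      _ = r * s * r⁻¹ * s * s := by group
      _ = s := by rw [h5, one_mul]
  calc r * s = r * s * r⁻¹ * r := by group
    _ = s * r := by rw [h7]

/-- `s ∈ U`, `[w,s] ∈ K` for a `w ∈ V - E` ⟹ `[V,s] ≤ K` -/
theorem mem_K_of {w : V} (hw : w ∉ E) {s : H} (hs : s ∈ U) (hc : s • w + w ∈ K) (v : V) :
    s • v + v ∈ K := by
  rw [h.K_iff _ (h.flat.VE s hs v)]
  intro r hr
  have h1 := h.conj_mem hr hs v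
  have h2 : r * s * r⁻¹ = s := by rw [h.comm_of hw hs hc hr, mul_inv_cancel_right]
  rw [h2] at h1
  have e1 : r • (s • v + v) + (s • v + v) = s • v + v + r • (s • v + v) := by abel
  rw [e1]
  exact h1

/-- `[e, r s r⁻¹] = [e,s]` for `e ∈ K` -/
theorem conj_act {r s : H} (hr : r ∈ R) (hs : s ∈ U) {e : V} (he : e ∈ K) :
    (r * s * r⁻¹) • e = s • e := by
  have h1 := (h.K_iff _ (h.KE he)).1 he r⁻¹ (inv_mem hr)
  -- `s (r⁻¹ e) + r⁻¹ e = s e + e`
  have h2 : s • r⁻¹ • e + s • e = r⁻¹ • e + e := by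
    rw [← smul_add]
    exact h.flat.fix h1 hs
  have h3 : s • e + e ∈ F := h.flat.EF s hs e (h.KE he)
  have h4 : s • r⁻¹ • e = s • e + (r⁻¹ • e + e) := by
    have e1 : s • r⁻¹ • e = s • r⁻¹ • e + s • e + s • e := by rw [add_assoc, h.flat.two, add_zero]
    rw [e1, h2]
    abel
  have h5 : s • r⁻¹ • e + r⁻¹ • e = s • e + e := by
    rw [h4]
    have e1 : s • e + (r⁻¹ • e + e) + r⁻¹ • e = s • e + e + (r⁻¹ • e + r⁻¹ • e) := by abel
    rw [e1, h.flat.two, add_zero]
  have h6 : r • (s • r⁻¹ • e + r⁻¹ • e) = s • e + e := by rw [h5, h.RF r hr _ h3]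
  rw [smul_add, smul_inv_smul] at h6
  have h7 : (r * s * r⁻¹) • e = r • s • r⁻¹ • e := by rw [mul_smul, mul_smul]
  rw [h7]
  exact add_right_cancel h6

/-- **`B` centralises `K`**: `s ∈ U`, `[w,s] ∈ K` ⟹ `[K,s] = 0` -/
theorem fix_K {w : V} (hw : w ∉ E) {s : H} (hs : s ∈ U) (hc : s • w + w ∈ K) {k : V} (hk : k ∈ K) :
    s • k = k := by
  let P : AddSubgroup V :=
    { carrier := {x | x ∈ E ∧ ∀ s ∈ U, s • w + w + x ∈ F → ∀ k ∈ K, s • k = k}
      add_mem' := by
        rintro x y ⟨hx, hx'⟩ ⟨hy, hy'⟩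
        refine ⟨add_mem hx hy, fun s hs hc k hk => ?_⟩
        obtain ⟨a, ha, ha1⟩ := h.flat.reg w hw x hx
        obtain ⟨b, hb, hb1⟩ := h.flat.reg w hw y hy
        have h1 := c_mul h.flat (mul_mem hs ha) (h.flat.VE b hb w)
        have h2 := c_mul h.flat hs (h.flat.VE a ha w)
        have h3 : (s * a * b) • w + w ∈ F := by
          have h4 := add_mem (add_mem (add_mem (add_mem h1 h2) ha1) hb1) hc
          have e1 : (s * a * b) • w + w + ((s * a) • w + w + (b • w + w)) +
              ((s * a) • w + w + (s • w + w + (a • w + w))) + (a • w + w + x) + (b • w + w + y) +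
              (s • w + w + (x + y)) = (s * a * b) • w + w +
              (((s * a) • w + w) + ((s * a) • w + w)) + ((b • w + w) + (b • w + w)) +
              ((s • w + w) + (s • w + w)) + ((a • w + w) + (a • w + w)) + ((x + y) + (x + y)) := by abel
          rw [e1] at h4
          simpa only [h.flat.two, add_zero] using h4
        have h4 := eq_one h.flat h.NN (mul_mem (mul_mem hs ha) hb) hw h3
        have h5 : (s * a * b) • k = k := by rw [h4, one_smul]
        rw [mul_smul, hy' b hb hb1 k hk, mul_smul, hx' a ha ha1 k hk] at h5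
        exact h5
      zero_mem' := ⟨zero_mem _, fun s hs hc k hk => by
        rw [add_zero] at hc
        rw [eq_one h.flat h.NN hs hw hc, one_smul]⟩
      neg_mem' := by
        rintro x hx
        rw [h.flat.neg]
        exact hx }
  have hF : F ≤ P := fun f hf => ⟨h.flat.F_le hf, fun s hs hc k _ => by
    have h1 : s • w + w ∈ F := (F.add_mem_cancel_right hf).1 hc
    rw [eq_one h.flat h.NN hs hw h1, one_smul]⟩
  have hcl : AddSubgroup.closure {x | ∃ r ∈ R, ∃ e ∈ E, x = r • e + e} ≤ P := by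
    rw [AddSubgroup.closure_le]
    rintro x ⟨r, hr, e, he, rfl⟩
    refine ⟨h.RE r hr e, fun s hs hc k hk => ?_⟩
    obtain ⟨t, ht, ht1⟩ := h.flat.reg w hw e he
    have h1 := h.conj_mem hr ht w
    have h2 : r • (t • w + w) + r • e ∈ F := by
      rw [← smul_add, h.RF r hr _ ht1]
      exact ht1
    have h3 := c_mul h.flat (mul_mem hs (h.RU r hr t ht)) (h.flat.VE t ht w)
    have h4 := c_mul h.flat hs (h.flat.VE _ (h.RU r hr t ht) w)
    have h5 : (s * (r * t * r⁻¹) * t) • w + w ∈ F := by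
      have h6 := add_mem (add_mem (add_mem (add_mem (add_mem h3 h4) h1) h2) ht1) hc
      have e1 : (s * (r * t * r⁻¹) * t) • w + w + ((s * (r * t * r⁻¹)) • w + w + (t • w + w)) +
          ((s * (r * t * r⁻¹)) • w + w + (s • w + w + ((r * t * r⁻¹) • w + w))) +
          ((r * t * r⁻¹) • w + w + r • (t • w + w)) + (r • (t • w + w) + r • e) + (t • w + w + e) +
          (s • w + w + (r • e + e)) = (s * (r * t * r⁻¹) * t) • w + w +
          (((s * (r * t * r⁻¹)) • w + w) + ((s * (r * t * r⁻¹)) • w + w)) +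
          ((t • w + w) + (t • w + w)) + ((s • w + w) + (s • w + w)) +
          (((r * t * r⁻¹) • w + w) + ((r * t * r⁻¹) • w + w)) +
          (r • (t • w + w) + r • (t • w + w)) + ((r • e + e) + (r • e + e)) := by abel
      rw [e1] at h6
      simpa only [h.flat.two, add_zero] using h6
    have h6 := eq_one h.flat h.NN (mul_mem (mul_mem hs (h.RU r hr t ht)) ht) hw h5
    have h7 : (s * (r * t * r⁻¹) * t) • k = k := by rw [h6, one_smul]
    -- `t k = k + f`
    have h8 : t • k + k ∈ F := h.flat.EF t ht k (h.KE hk)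
    have h9 : (r * t * r⁻¹) • t • k = k := by
      have e1 : t • k = k + (t • k + k) := by rw [add_comm (t • k) k, ← add_assoc, h.flat.two, zero_add]
      have h10 : (r * t * r⁻¹) • t • k = t • k + (t • k + k) := by
        conv_lhs => rw [e1]
        rw [smul_add, h.conj_act hr ht hk, h.flat.fix h8 (h.RU r hr t ht)]
      rw [h10, ← add_assoc, h.flat.two, zero_add]
    rw [mul_smul, mul_smul, h9] at h7
    exact h7
  have hKP : K ≤ P := h.gen.trans (sup_le hF hcl)
  exact (hKP hc).2 s hs (by rw [h.flat.two]; exact zero_mem _) k hk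

end Kl

/-- `{r ∈ R | [V,r] ≤ K, [K,r] = 0}` -/
def RR (R : Subgroup H) (K : AddSubgroup V) : Subgroup H where
  carrier := {r | r ∈ R ∧ (∀ v : V, r • v - v ∈ K) ∧ ∀ k ∈ K, r • k = k}
  mul_mem' := by
    rintro a b ⟨ha, ha1, ha2⟩ ⟨hb, hb1, hb2⟩
    refine ⟨mul_mem ha hb, fun v => ?_, fun k hk => by rw [mul_smul, hb2 k hk, ha2 k hk]⟩
    have e1 : (a * b) • v - v = (a • b • v - b • v) + (b • v - v) := by rw [mul_smul]; abel
    rw [e1]
    exact add_mem (ha1 _) (hb1 _)
  one_mem' := ⟨one_mem _, fun v => by rw [one_smul, sub_self]; exact zero_mem _, fun k _ => one_smul _ k⟩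
  inv_mem' := by
    rintro a ⟨ha, ha1, ha2⟩
    refine ⟨inv_mem ha, fun v => ?_, fun k hk => ?_⟩
    · have h1 := neg_mem (ha1 (a⁻¹ • v))
      rw [smul_inv_smul, neg_sub] at h1
      exact h1
    · rw [inv_smul_eq_iff, ha2 k hk]

namespace Kl

variable {U R : Subgroup H} {E F K : AddSubgroup V} (h : Kl U R E F K)
include h

theorem sub_eq (a b : V) : a - b = a + b := by rw [sub_eq_add_neg, h.flat.neg]

theorem mem_RR {r : H} : r ∈ RR R K ↔ r ∈ R ∧ (∀ v : V, r • v + v ∈ K) ∧ ∀ k ∈ K, r • k = k := by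
  constructor
  · rintro ⟨h1, h2, h3⟩
    exact ⟨h1, fun v => by rw [← h.sub_eq]; exact h2 v, h3⟩
  · rintro ⟨h1, h2, h3⟩
    exact ⟨h1, fun v => by rw [h.sub_eq]; exact h2 v, h3⟩

/-- `s ∈ U`, `[w,s] ∈ K` ⟹ `s ∈ U ∩ RR` -/
theorem mem_B {w : V} (hw : w ∉ E) {s : H} (hs : s ∈ U) (hc : s • w + w ∈ K) : s ∈ U ⊓ RR R K :=
  mem_inf.2 ⟨hs, h.mem_RR.2 ⟨h.UR hs, h.mem_K_of hw hs hc, fun _ hk => h.fix_K hw hs hc hk⟩⟩

theorem act_mul {a b : H} (ha : a ∈ RR R K) (hb : b ∈ RR R K) (v : V) : (a * b) • v = a • v + (b • v + v) := by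
  have h1 := (h.mem_RR.1 hb).2.1 v
  have h2 := (h.mem_RR.1 ha).2.2 _ h1
  rw [smul_add] at h2
  have e1 : (a * b) • v = a • b • v + a • v + a • v := by
    rw [mul_smul, add_assoc, h.flat.two, add_zero]
  rw [e1, h2]
  abel

theorem RR_comm {a b : H} (ha : a ∈ RR R K) (hb : b ∈ RR R K) : a * b = b * a :=
  eq_of_act h.flat h.NN fun v => by
    rw [h.act_mul ha hb, h.act_mul hb ha]
    abel

theorem RR_sq {a : H} (ha : a ∈ RR R K) : a * a = 1 :=
  eq_of_act h.flat h.NN fun v => by
    rw [h.act_mul ha ha, ← add_assoc, h.flat.two, zero_add, one_smul]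

theorem card_B [Finite V] {w : V} (hw : w ∉ E) :
    Nat.card ↥(U ⊓ RR R K) * Nat.card F = Nat.card K := by
  let φ : ↥(U ⊓ RR R K) × F → K := fun x => ⟨(x.1 : H) • w + w + x.2,
    add_mem ((h.mem_RR.1 (mem_inf.1 x.1.2).2).2.1 w) (h.FK x.2.2)⟩
  have hφ : Function.Bijective φ := by
    constructor
    · rintro ⟨⟨s, hs⟩, f, hf⟩ ⟨⟨t, ht⟩, g, hg⟩ he
      have h1 : s • w + w + f = t • w + w + g := congrArg Subtype.val he
      have hsU := (mem_inf.1 hs).1
      have htU := (mem_inf.1 ht).1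
      have h2 := c_mul h.flat hsU (h.flat.VE t htU w)
      have h3 : (s * t) • w + w ∈ F := by
        have h4 : (s • w + w) + (t • w + w) = f + g := by
          have e1 : (s • w + w) + (t • w + w) = (s • w + w + f) + (t • w + w) + f := by
            have e2 : (s • w + w + f) + (t • w + w) + f = (s • w + w) + (t • w + w) + (f + f) := by abel
            rw [e2, h.flat.two, add_zero]
          rw [e1, h1]
          have e2 : t • w + w + g + (t • w + w) + f = (t • w + w) + (t • w + w) + (f + g) := by abel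
          rw [e2, h.flat.two, zero_add]
        have h5 : (s • w + w) + (t • w + w) ∈ F := by rw [h4]; exact add_mem hf hg
        exact (F.add_mem_cancel_right h5).1 h2
      have h4 := eq_one h.flat h.NN (mul_mem hsU htU) hw h3
      have h5 : s = t := by
        have h6 := sq_eq h.flat h.NN htU
        calc s = s * (t * t) := by rw [h6, mul_one]
          _ = s * t * t := by group
          _ = t := by rw [h4, one_mul]
      subst h5
      have h6 : f = g := add_left_cancel h1
      subst h6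
      rfl
    · rintro ⟨k, hk⟩
      obtain ⟨s, hs, h1⟩ := h.flat.reg w hw k (h.KE hk)
      have h2 : s • w + w ∈ K := (K.add_mem_cancel_right hk).1 (h.FK h1)
      refine ⟨(⟨s, h.mem_B hw hs h2⟩, ⟨_, h1⟩), Subtype.ext ?_⟩
      change s • w + w + (s • w + w + k) = k
      rw [← add_assoc, h.flat.two, zero_add]
  rw [← Nat.card_prod]
  exact Nat.card_congr (Equiv.ofBijective φ hφ)

/-- **KILL** -/
theorem false_of [Finite H] [Finite V]
    (hcard : Nat.card K * Nat.card K = Nat.card E * Nat.card F)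
    (mu : ∀ A : Subgroup H, A ≤ U → ∀ D : AddSubgroup V, D ≤ E → (∀ a ∈ A, ∀ d ∈ D, a • d = d) →
      Nat.card A * Nat.card D ≤ Nat.card E)
    (noff : ∀ A : Subgroup H, A ≤ R → A ≠ ⊥ → (∀ a ∈ A, ∀ b ∈ A, a * b = b * a) → (∀ a ∈ A, a * a = 1) →
      ∀ D : AddSubgroup V, (∀ a ∈ A, ∀ d ∈ D, a • d = d) → Nat.card A * Nat.card D < Nat.card V)
    (hq : E.index ≤ U.relIndex R) : False := by
  obtain ⟨w, hw⟩ := h.flat.ne'
  have hB := h.card_B hw
  have hFpos : 0 < Nat.card F := Nat.card_pos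
  have hKpos : 0 < Nat.card K := Nat.card_pos
  -- `C_E(B) = K`
  let D : AddSubgroup V :=
    { carrier := {e | e ∈ E ∧ ∀ s ∈ U ⊓ RR R K, s • e = e}
      add_mem' := by
        rintro a b ⟨ha, ha'⟩ ⟨hb, hb'⟩
        exact ⟨add_mem ha hb, fun s hs => by rw [smul_add, ha' s hs, hb' s hs]⟩
      zero_mem' := ⟨zero_mem _, fun s _ => smul_zero s⟩
      neg_mem' := by
        rintro a ⟨ha, ha'⟩
        exact ⟨neg_mem ha, fun s hs => by rw [smul_neg, ha' s hs]⟩ }
  have hKD : K ≤ D := fun k hk => ⟨h.KE hk, fun s hs => (h.mem_RR.1 (mem_inf.1 hs).2).2.2 k hk⟩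
  have hD1 := mu (U ⊓ RR R K) inf_le_left D (fun d hd => hd.1) fun a ha d hd => hd.2 a ha
  have hD2 : Nat.card D ≤ Nat.card K := by
    have h1 : Nat.card K * Nat.card D ≤ Nat.card K * Nat.card K := by
      rw [hcard, ← hB]
      calc Nat.card ↥(U ⊓ RR R K) * Nat.card F * Nat.card D =
          Nat.card ↥(U ⊓ RR R K) * Nat.card D * Nat.card F := by ring
        _ ≤ Nat.card E * Nat.card F := Nat.mul_le_mul_right _ hD1
    exact Nat.le_of_mul_le_mul_left h1 hKpos
  have hDK : K = D := AddSubgroup.eq_of_le_of_card_ge hKD hD2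
  -- `r ∈ R`, `[w,r] ∈ F` ⟹ `r ∈ RR`
  have key : ∀ r ∈ R, r • w + w ∈ F → r ∈ RR R K := by
    intro r hr hc
    have hfix : ∀ k ∈ K, r • k = k := by
      intro k hk
      obtain ⟨s, hs, h1⟩ := h.flat.reg w hw k (h.KE hk)
      have h2 : s • w + w ∈ K := (K.add_mem_cancel_right hk).1 (h.FK h1)
      have h3 := h.comm_of hw hs h2 hr
      have h4 : s • (r • w + w) = r • w + w := h.flat.fix hc hs
      have h5 : r • (s • w + w + k) = s • w + w + k := h.RF r hr _ h1
      rw [smul_add, smul_add, ← mul_smul, h3, mul_smul] at h5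
      rw [smul_add] at h4
      have h6 : r • k + k = (s • r • w + r • w + r • k) + (s • w + w + k) +
          ((s • r • w + s • w) + (r • w + w)) := by
        have e1 : (s • r • w + r • w + r • k) + (s • w + w + k) +
            ((s • r • w + s • w) + (r • w + w)) = (s • r • w + s • r • w) + (r • w + r • w) +
            (s • w + s • w) + (w + w) + (r • k + k) := by abel
        simp only [e1, h.flat.two, zero_add]
      rw [h5, h4, h.flat.two, h.flat.two, add_zero] at h6
      exact h.flat.add_eq.1 h6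
    refine h.mem_RR.2 ⟨hr, fun v => ?_, hfix⟩
    rw [hDK]
    refine ⟨h.RE r hr v, fun s hs => ?_⟩
    have h1 := h.mem_RR.1 (mem_inf.1 hs).2
    have h2 := hfix _ (h1.2.1 v)
    have h3 := h.comm_of hw (mem_inf.1 hs).1 (h1.2.1 w) hr
    rw [smul_add, ← mul_smul, h3, mul_smul] at h2
    have h4 : s • (r • v + v) + (r • v + v) = 0 := by
      have e1 : s • (r • v + v) + (r • v + v) = (s • r • v + r • v) + (s • v + v) := by
        rw [smul_add]
        abel
      rw [e1, h2, h.flat.two]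
    exact h.flat.add_eq.1 h4
  -- `U.relIndex R ≤ U.relIndex RR`
  have hRR : RR R K ≤ R := fun r hr => hr.1
  have hidx : U.relIndex R ≤ U.relIndex (RR R K) := by
    let ψ : (↥(RR R K) ⧸ U.subgroupOf (RR R K)) → (↥R ⧸ U.subgroupOf R) :=
      Quotient.map' (fun x => ⟨x.1, hRR x.2⟩) fun a b hab => by
        rw [QuotientGroup.leftRel_apply] at hab ⊢
        exact hab
    have hψ : Function.Surjective ψ := by
      intro y
      induction y using QuotientGroup.induction_on with
      | H r =>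
        obtain ⟨r, hr⟩ := r
        obtain ⟨s, hs, h1⟩ := h.flat.reg w hw _ (h.RE r hr w)
        have h2 : (s * r) • w + w ∈ F := by
          have h3 := c_mul h.flat hs (h.RE r hr w)
          exact (F.add_mem_cancel_right h1).1 h3
        have h3 : s * r ∈ RR R K := key _ (mul_mem (h.UR hs) hr) h2
        refine ⟨QuotientGroup.mk ⟨s * r, h3⟩, ?_⟩
        change QuotientGroup.mk (s := U.subgroupOf R) (⟨s * r, hRR h3⟩ : R) = QuotientGroup.mk ⟨r, hr⟩
        rw [QuotientGroup.eq, mem_subgroupOf]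
        have h4 := h.RU r⁻¹ (inv_mem hr) _ (inv_mem hs)
        have e1 : (((⟨s * r, hRR h3⟩ : R)⁻¹ * ⟨r, hr⟩ : R) : H) = r⁻¹ * s⁻¹ * r⁻¹⁻¹ := by
          change (s * r)⁻¹ * r = _
          group
        rw [e1]
        exact h4
    exact Nat.card_le_card_of_surjective ψ hψ
  have hmul : Nat.card ↥(U ⊓ RR R K) * U.relIndex (RR R K) = Nat.card (RR R K) := by
    have h1 := relIndex_mul_relIndex (⊥ : Subgroup H) (U ⊓ RR R K) (RR R K) bot_le inf_le_right
    rw [relIndex_bot_left, relIndex_bot_left, inf_relIndex_right] at h1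
    exact h1
  have hE : E.index * Nat.card E = Nat.card V := E.index_mul_card
  have hE1 : E.index ≠ 1 := by
    intro h1
    rw [AddSubgroup.index_eq_one] at h1
    exact hw (by rw [h1]; exact AddSubgroup.mem_top _)
  have hE0 : E.index ≠ 0 := AddSubgroup.index_ne_zero_of_finite
  have hne : RR R K ≠ ⊥ := by
    intro h1
    rw [h1, relIndex_bot_right] at hidx
    omega
  have h1 := noff _ hRR hne (fun a ha b hb => h.RR_comm ha hb) (fun a ha => h.RR_sq ha) K
    fun a ha d hd => (h.mem_RR.1 ha).2.2 d hd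
  rw [← hmul, ← hE] at h1
  have h2 : E.index * (Nat.card ↥(U ⊓ RR R K) * Nat.card K) < E.index * Nat.card E := by
    calc E.index * (Nat.card ↥(U ⊓ RR R K) * Nat.card K) =
        Nat.card ↥(U ⊓ RR R K) * E.index * Nat.card K := by ring
      _ ≤ Nat.card ↥(U ⊓ RR R K) * U.relIndex (RR R K) * Nat.card K :=
        Nat.mul_le_mul_right _ (Nat.mul_le_mul_left _ (hq.trans hidx))
      _ < E.index * Nat.card E := h1
  have h3 := Nat.lt_of_mul_lt_mul_left h2
  have h4 : Nat.card K * Nat.card K < Nat.card E * Nat.card F := by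
    calc Nat.card K * Nat.card K = Nat.card ↥(U ⊓ RR R K) * Nat.card F * Nat.card K := by rw [hB]
      _ = Nat.card ↥(U ⊓ RR R K) * Nat.card K * Nat.card F := by ring
      _ < Nat.card E * Nat.card F := Nat.mul_lt_mul_of_pos_right h3 hFpos
  rw [hcard] at h4
  exact lt_irrefl _ h4

end Kl

end Cfsg.Agent.Omega.NO1.SzK
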